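import Cfsg.Agent.Lib.SporRecognition.Cert.Fi22U.Main
import Cfsg.Agent.Lib.SporRecognition.FischerAut.Conj

/-! Generated configuration certificate for Fi22: definitions. -/

set_option autoImplicit false
set_option maxRecDepth 20000
set_option linter.all false
set_option Elab.async false

namespace CfsgLib.SporRecognition.Cert.Fi22Conf

open CfsgLib.SporRecognition.CosetCert
open CfsgLib.SporRecognition.FischerAut
open CfsgLib.SporRecognition.Cert

noncomputable abbrev σ := Fi22U.certified.hom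

def pt0 : Fin 3510 := 0
def pt2 : Fin 3510 := ⟨2, by decide⟩
def pt4 : Fin 3510 := ⟨4, by decide⟩
def pt6 : Fin 3510 := ⟨6, by decide⟩
def pt38 : Fin 3510 := ⟨38, by decide⟩
def pt87 : Fin 3510 := ⟨87, by decide⟩
def pt140 : Fin 3510 := ⟨140, by decide⟩
def pt19 : Fin 3510 := ⟨19, by decide⟩
def pt64 : Fin 3510 := ⟨64, by decide⟩
def pt1 : Fin 3510 := ⟨1, by decide⟩
def pt14 : Fin 3510 := ⟨14, by decide⟩
def pt13 : Fin 3510 := ⟨13, by decide⟩
def pt32 : Fin 3510 := ⟨32, by decide⟩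
def pt12 : Fin 3510 := ⟨12, by decide⟩
def pt35 : Fin 3510 := ⟨35, by decide⟩
def pt33 : Fin 3510 := ⟨33, by decide⟩
def pt60 : Fin 3510 := ⟨60, by decide⟩
def pt3 : Fin 3510 := ⟨3, by decide⟩
def pt15 : Fin 3510 := ⟨15, by decide⟩
def pt29 : Fin 3510 := ⟨29, by decide⟩
def pt10 : Fin 3510 := ⟨10, by decide⟩
def pt26 : Fin 3510 := ⟨26, by decide⟩
def pt47 : Fin 3510 := ⟨47, by decide⟩
def pt72 : Fin 3510 := ⟨72, by decide⟩
def pt96 : Fin 3510 := ⟨96, by decide⟩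
def pt121 : Fin 3510 := ⟨121, by decide⟩
def pt152 : Fin 3510 := ⟨152, by decide⟩
def pt187 : Fin 3510 := ⟨187, by decide⟩
def pt11 : Fin 3510 := ⟨11, by decide⟩
def pt31 : Fin 3510 := ⟨31, by decide⟩
def pt54 : Fin 3510 := ⟨54, by decide⟩
def pt79 : Fin 3510 := ⟨79, by decide⟩
def pt102 : Fin 3510 := ⟨102, by decide⟩
def pt129 : Fin 3510 := ⟨129, by decide⟩
def pt161 : Fin 3510 := ⟨161, by decide⟩
def pt200 : Fin 3510 := ⟨200, by decide⟩
def pt250 : Fin 3510 := ⟨250, by decide⟩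
def pt315 : Fin 3510 := ⟨315, by decide⟩
def pt58 : Fin 3510 := ⟨58, by decide⟩
def pt83 : Fin 3510 := ⟨83, by decide⟩
def pt104 : Fin 3510 := ⟨104, by decide⟩
def pt127 : Fin 3510 := ⟨127, by decide⟩
def pt157 : Fin 3510 := ⟨157, by decide⟩
def pt192 : Fin 3510 := ⟨192, by decide⟩
def pt236 : Fin 3510 := ⟨236, by decide⟩
def pt294 : Fin 3510 := ⟨294, by decide⟩
def pt368 : Fin 3510 := ⟨368, by decide⟩
def pt463 : Fin 3510 := ⟨463, by decide⟩
def pt584 : Fin 3510 := ⟨584, by decide⟩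
def pt714 : Fin 3510 := ⟨714, by decide⟩

/-- The points of the generators. -/
def P : Cfsg.Spor.Fi22.Gen → Fin 3510
  | .a => pt0
  | .b => pt2
  | .c => pt4
  | .d => pt6
  | .e => pt38
  | .f => pt87
  | .g => pt140
  | .h => pt19
  | .i => pt64

def edge : Cfsg.Spor.Fi22.Gen → Cfsg.Spor.Fi22.Gen → Bool
  | .a, .b => true
  | .b, .a => true
  | .b, .c => true
  | .c, .b => true
  | .c, .d => true
  | .d, .c => true
  | .d, .e => true
  | .e, .d => true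
  | .d, .h => true
  | .h, .d => true
  | .e, .f => true
  | .f, .e => true
  | .f, .g => true
  | .g, .f => true
  | .h, .i => true
  | .i, .h => true
  | _, _ => false

def words : List (List Cfsg.Spor.Fi22.Gen) := [[.d, .c, .b, .d, .e, .f, .d, .h, .i, .d, .c, .b, .d, .e, .f, .d, .h, .i, .d, .c, .b, .d, .e, .f, .d, .h, .i, .d, .c, .b, .d, .e, .f, .d, .h, .i, .d, .c, .b, .d, .e, .f, .d, .h, .i, .d, .c, .b, .d, .e, .f, .d, .h, .i, .d, .c, .b, .d, .e, .f, .d, .h, .i, .d, .c, .b, .d, .e, .f, .d, .h, .i, .d, .c, .b, .d, .e, .f, .d, .h, .i, .d, .c, .b, .d, .e, .f, .d, .h, .i],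
  [.a, .b, .c, .d, .e, .f, .h, .a, .b, .c, .d, .e, .f, .h, .a, .b, .c, .d, .e, .f, .h, .a, .b, .c, .d, .e, .f, .h, .a, .b, .c, .d, .e, .f, .h, .a, .b, .c, .d, .e, .f, .h, .a, .b, .c, .d, .e, .f, .h, .a, .b, .c, .d, .e, .f, .h, .a, .b, .c, .d, .e, .f, .h],
  [.b, .c, .d, .e, .f, .g, .h, .b, .c, .d, .e, .f, .g, .h, .b, .c, .d, .e, .f, .g, .h, .b, .c, .d, .e, .f, .g, .h, .b, .c, .d, .e, .f, .g, .h, .b, .c, .d, .e, .f, .g, .h, .b, .c, .d, .e, .f, .g, .h, .b, .c, .d, .e, .f, .g, .h, .b, .c, .d, .e, .f, .g, .h]]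


end CfsgLib.SporRecognition.Cert.Fi22Conf
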