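import Cfsg.Agent.Lib.SporRecognition.Cert.Fi22Conf.Points
import Cfsg.Agent.Lib.SporRecognition.Cert.Fi22Conf.N11G0

/-! Generated configuration certificate for Fi22: orbits on the candidates at node 11. -/

set_option autoImplicit false
set_option maxRecDepth 20000
set_option linter.all false
set_option Elab.async false

namespace CfsgLib.SporRecognition.Cert.Fi22Conf

open CfsgLib.SporRecognition.CosetCert
open CfsgLib.SporRecognition.FischerAut
open CfsgLib.SporRecognition.Cert

noncomputable def gens11 : List (Nat → Nat) := [G11_0, G11_1, G11_2, G11_3, G11_4, G11_5, G11_6, G11_7, G11_8]
theorem hts11 : ∀ t ∈ gens11, Realised (ptsStab σ.range ([pt2, pt4, pt6, pt38, pt32] : List (Fin 3510))) t :=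
  (List.forall_mem_cons.mpr ⟨rg11_0, (List.forall_mem_cons.mpr ⟨rg11_1, (List.forall_mem_cons.mpr ⟨rg11_2, (List.forall_mem_cons.mpr ⟨rg11_3, (List.forall_mem_cons.mpr ⟨rg11_4, (List.forall_mem_cons.mpr ⟨rg11_5, (List.forall_mem_cons.mpr ⟨rg11_6, (List.forall_mem_cons.mpr ⟨rg11_7, (List.forall_mem_cons.mpr ⟨rg11_8, (fun _ h => absurd h List.not_mem_nil)⟩)⟩)⟩)⟩)⟩)⟩)⟩)⟩)⟩)

def lab11Lit : Nat := 0x0
noncomputable def lab11 (u : Nat) : Nat := Nat.land (Nat.shiftRight lab11Lit (Nat.mul 1 u)) 1
def rk11Lit : Nat := 0x8000000000000000000000000000000000000000000040000000001000000000000000000000000000000000000000000000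
noncomputable def rk11 (u : Nat) : Nat := Nat.land (Nat.shiftRight rk11Lit (Nat.mul 1 u)) 1
def via11Lit : Nat := 0x800000000000000000000000000000000000000000000000000000000000000000000000000000000000000000000000000000000000000000000000000000000000040000000000000000000000000000000000000000000000000000000000000000000000000000000000000000000000000000000000000000000000000000000000000000000000000000000000000000000000
noncomputable def via11 (u : Nat) : Nat := Nat.land (Nat.shiftRight via11Lit (Nat.mul 3 u)) 7
def src11Lit : Nat := 0x40000000000000000000000000000000000000000000000000000000000000000000000000000000000000000000000000000000000000000000000000000000000000000000000000000000000000000000000000000000000000000000000000000000000000000000000000000000000000000000000000000000000000000000000000000000000000000000000000000000000000000000000000000000000000000000000000000000000000000000000000000000000000000000000000000000000000000000000000000000000000000000000000000000000000000000000000000000000000000000000000000000000000000000000000000000000000000000000000040000000000000000000000000000000000000000000000000000000000000000000000000000000000000000000000000000000000000000000000000000040000000000000000000000000000000000000000000000000000000000000000000000000000000000000000000000000000000000000000000000000000000000000000000000000000000000000000000000000000000000000000000000000000000000000000000000000000000000000000000000000000000000000000000000000000000000000000000000000000000000000000000000000000000000000000000000000000000000000000000000000000000000000000000000000000000000000000000000000000000000000000000000000000000000000000000000000000000000000000000000000000000000000000000000000000000000000000000000000000000000000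
noncomputable def src11 (u : Nat) : Nat := Nat.land (Nat.shiftRight src11Lit (Nat.mul 12 u)) 4095
def root11Lit : Nat := 0x40
noncomputable def root11 (u : Nat) : Nat := Nat.land (Nat.shiftRight root11Lit (Nat.mul 12 u)) 4095
noncomputable def cand11 (u : Nat) : Bool := condStep [(t2, false, 2), (t4, false, 4), (t6, false, 6), (t38, false, 38), (t32, true, 32)] u

theorem nchk11_c0 : allPow 3510 (nodeStep gens11 cand11 lab11 root11 rk11 via11 src11 1 3510) 11 0 = true := by decide +kernel
theorem nchk11_c1 : allPow 3510 (nodeStep gens11 cand11 lab11 root11 rk11 via11 src11 1 3510) 11 2048 = true := by decide +kernel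
theorem nchk11 : allBelow 12 3510 (nodeStep gens11 cand11 lab11 root11 rk11 via11 src11 1 3510) = true :=
  allBelow_of_upto (hi := 4096)
    (Upto.trans (mid := 2048) ((Upto.of_pow nchk11_c0 (Nat.le_refl _)) : Upto _ _ 0 (0 + 2 ^ 11))
    ((Upto.of_pow nchk11_c1 (Nat.le_refl _)) : Upto _ _ 2048 (2048 + 2 ^ 11)))
    (by decide) (by decide)


end CfsgLib.SporRecognition.Cert.Fi22Conf
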