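import Cfsg.Agent.Lib.SporRecognition.Cert.Fi22Conf.Points
import Cfsg.Agent.Lib.SporRecognition.Cert.Fi22Conf.N15G0

/-! Generated configuration certificate for Fi22: orbits on the candidates at node 15. -/

set_option autoImplicit false
set_option maxRecDepth 20000
set_option linter.all false
set_option Elab.async false

namespace CfsgLib.SporRecognition.Cert.Fi22Conf

open CfsgLib.SporRecognition.CosetCert
open CfsgLib.SporRecognition.FischerAut
open CfsgLib.SporRecognition.Cert

noncomputable def gens15 : List (Nat → Nat) := [G15_0, G15_1, G15_2, G15_3, G15_4, G15_5, G15_6, G15_7, G15_8]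
theorem hts15 : ∀ t ∈ gens15, Realised (ptsStab σ.range ([pt2, pt4, pt6, pt38, pt187] : List (Fin 3510))) t :=
  (List.forall_mem_cons.mpr ⟨rg15_0, (List.forall_mem_cons.mpr ⟨rg15_1, (List.forall_mem_cons.mpr ⟨rg15_2, (List.forall_mem_cons.mpr ⟨rg15_3, (List.forall_mem_cons.mpr ⟨rg15_4, (List.forall_mem_cons.mpr ⟨rg15_5, (List.forall_mem_cons.mpr ⟨rg15_6, (List.forall_mem_cons.mpr ⟨rg15_7, (List.forall_mem_cons.mpr ⟨rg15_8, (fun _ h => absurd h List.not_mem_nil)⟩)⟩)⟩)⟩)⟩)⟩)⟩)⟩)⟩)

def lab15Lit : Nat := 0x0
noncomputable def lab15 (u : Nat) : Nat := Nat.land (Nat.shiftRight lab15Lit (Nat.mul 1 u)) 1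
def rk15Lit : Nat := 0x40000000000400000000100000000000000000000000000000000000
noncomputable def rk15 (u : Nat) : Nat := Nat.land (Nat.shiftRight rk15Lit (Nat.mul 1 u)) 1
def via15Lit : Nat := 0x40000000000000000000000000000000000000000000000000000000000005000000000000000000000000000000000000000000000000000000000000000000000000000000000000000000000000000000000
noncomputable def via15 (u : Nat) : Nat := Nat.land (Nat.shiftRight via15Lit (Nat.mul 3 u)) 7
def src15Lit : Nat := 0x3c00000000000000000000000000000000000000000000000000000000000000000000000000000000000000000000000000000000000000000000000000000000003c00000000000000000000000000000000000000000000000000000000000000000000000000000000000000000000000000000000000000003c000000000000000000000000000000000000000000000000000000000000000000000000000000000000000000000000000000000000000000000000000000000000000000000000000000000000000000000000000000000000000000000000000000000000000000000000000000000000000000000000000000000000000000000000000000000000000000000000000000000000000000000000000000000000000000000000000000000000000000000000000000000000000000000000000000000000000000000000000000000000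
noncomputable def src15 (u : Nat) : Nat := Nat.land (Nat.shiftRight src15Lit (Nat.mul 12 u)) 4095
def root15Lit : Nat := 0x3c
noncomputable def root15 (u : Nat) : Nat := Nat.land (Nat.shiftRight root15Lit (Nat.mul 12 u)) 4095
noncomputable def cand15 (u : Nat) : Bool := condStep [(t2, false, 2), (t4, false, 4), (t6, false, 6), (t38, false, 38), (t187, true, 187)] u

theorem nchk15_c0 : allPow 3510 (nodeStep gens15 cand15 lab15 root15 rk15 via15 src15 1 3510) 11 0 = true := by decide +kernel
theorem nchk15_c1 : allPow 3510 (nodeStep gens15 cand15 lab15 root15 rk15 via15 src15 1 3510) 11 2048 = true := by decide +kernel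
theorem nchk15 : allBelow 12 3510 (nodeStep gens15 cand15 lab15 root15 rk15 via15 src15 1 3510) = true :=
  allBelow_of_upto (hi := 4096)
    (Upto.trans (mid := 2048) ((Upto.of_pow nchk15_c0 (Nat.le_refl _)) : Upto _ _ 0 (0 + 2 ^ 11))
    ((Upto.of_pow nchk15_c1 (Nat.le_refl _)) : Upto _ _ 2048 (2048 + 2 ^ 11)))
    (by decide) (by decide)


end CfsgLib.SporRecognition.Cert.Fi22Conf
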