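import Cfsg.Agent.Lib.SporRecognition.Cert.Fi22Conf.Points
import Cfsg.Agent.Lib.SporRecognition.Cert.Fi22Conf.N17G0

/-! Generated configuration certificate for Fi22: orbits on the candidates at node 17. -/

set_option autoImplicit false
set_option maxRecDepth 20000
set_option linter.all false
set_option Elab.async false

namespace CfsgLib.SporRecognition.Cert.Fi22Conf

open CfsgLib.SporRecognition.CosetCert
open CfsgLib.SporRecognition.FischerAut
open CfsgLib.SporRecognition.Cert

noncomputable def gens17 : List (Nat → Nat) := [G17_0]
theorem hts17 : ∀ t ∈ gens17, Realised (ptsStab σ.range ([pt2, pt4, pt6, pt38, pt187, pt60, pt33] : List (Fin 3510))) t :=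
  (List.forall_mem_cons.mpr ⟨rg17_0, (fun _ h => absurd h List.not_mem_nil)⟩)

def lab17Lit : Nat := 0x0
noncomputable def lab17 (u : Nat) : Nat := Nat.land (Nat.shiftRight lab17Lit (Nat.mul 1 u)) 1
def rk17Lit : Nat := 0x1000000000000000000000000000000000000000000000
noncomputable def rk17 (u : Nat) : Nat := Nat.land (Nat.shiftRight rk17Lit (Nat.mul 1 u)) 1
def via17Lit : Nat := 0x0
noncomputable def via17 (u : Nat) : Nat := Nat.land (Nat.shiftRight via17Lit (Nat.mul 1 u)) 1
def src17Lit : Nat := 0x40000000000000000000000000000000000000000000000000000000000000000000000000000000000000000000000000000000000000000000000000000000000000000000000000000000000000000000000000000000000000000000000000000000000000000000000000000000000000000000000000000000000000000000000000000000000000000000000000000000000000000000000000000000000000000000000000000000000000000000000000000000000000000000000000000000000000000000000000000000000000000000000000000000000000000000000000000000000000000000000000000000000000000000000000000000000000000000000000000000000000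
noncomputable def src17 (u : Nat) : Nat := Nat.land (Nat.shiftRight src17Lit (Nat.mul 12 u)) 4095
def root17Lit : Nat := 0x40
noncomputable def root17 (u : Nat) : Nat := Nat.land (Nat.shiftRight root17Lit (Nat.mul 12 u)) 4095
noncomputable def cand17 (u : Nat) : Bool := condStep [(t2, false, 2), (t4, false, 4), (t6, false, 6), (t38, false, 38), (t187, false, 187), (t60, false, 60), (t33, true, 33)] u

theorem nchk17_c0 : allPow 3510 (nodeStep gens17 cand17 lab17 root17 rk17 via17 src17 1 3510) 10 0 = true := by decide +kernel
theorem nchk17_c1 : allPow 3510 (nodeStep gens17 cand17 lab17 root17 rk17 via17 src17 1 3510) 10 1024 = true := by decide +kernel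
theorem nchk17_c2 : allPow 3510 (nodeStep gens17 cand17 lab17 root17 rk17 via17 src17 1 3510) 10 2048 = true := by decide +kernel
theorem nchk17_c3 : allPow 3510 (nodeStep gens17 cand17 lab17 root17 rk17 via17 src17 1 3510) 10 3072 = true := by decide +kernel
theorem nchk17 : allBelow 12 3510 (nodeStep gens17 cand17 lab17 root17 rk17 via17 src17 1 3510) = true :=
  allBelow_of_upto (hi := 4096)
    (Upto.trans (mid := 2048) (Upto.trans (mid := 1024) ((Upto.of_pow nchk17_c0 (Nat.le_refl _)) : Upto _ _ 0 (0 + 2 ^ 10))
    ((Upto.of_pow nchk17_c1 (Nat.le_refl _)) : Upto _ _ 1024 (1024 + 2 ^ 10)))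
    (Upto.trans (mid := 3072) ((Upto.of_pow nchk17_c2 (Nat.le_refl _)) : Upto _ _ 2048 (2048 + 2 ^ 10))
    ((Upto.of_pow nchk17_c3 (Nat.le_refl _)) : Upto _ _ 3072 (3072 + 2 ^ 10))))
    (by decide) (by decide)


end CfsgLib.SporRecognition.Cert.Fi22Conf
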